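import Mathlib
import Groth.Agent.LC.PrimeSel
import Groth.Agent.AlgSpDec.IsolatedPoints

/-!
Quasi-finite slices: through a point closed in its fibre and any specialisation from outside that fibre
there is a closed subscheme, quasi-finite at the point, meeting a given open set off the fibre.
-/

set_option autoImplicit false
universe u

open CategoryTheory Limits AlgebraicGeometry

namespace Groth.Agent.QFSlice

/-- In a noetherian local ring, outside a closed subset of the spectrum there is a prime maximal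
among those outside, and only the maximal ideal lies properly above it. -/
theorem exists_prime_coheight_one {R : Type u} [CommRing R] [IsLocalRing R] [IsNoetherianRing R]
    (U : TopologicalSpace.Opens (PrimeSpectrum R)) (q : PrimeSpectrum R) (hq : q ∈ U)
    (hc : IsLocalRing.closedPoint R ∉ U) :
    ∃ p ∈ U, ∀ r : PrimeSpectrum R, p ≤ r → r = p ∨ r = IsLocalRing.closedPoint R := by
  classical
  obtain ⟨J, hJ⟩ := (PrimeSpectrum.isClosed_iff_zeroLocus_ideal ((U : Set (PrimeSpectrum R))ᶜ)).1 U.2.isClosed_compl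
  have hmem : ∀ r : PrimeSpectrum R, r ∈ U ↔ ¬ J ≤ r.asIdeal := fun r => by
    have := Set.ext_iff.1 hJ r
    simp only [Set.mem_compl_iff, SetLike.mem_coe, PrimeSpectrum.mem_zeroLocus, SetLike.coe_subset_coe] at this
    rw [← this, not_not]
  obtain ⟨p, ⟨hp, hJp⟩, hmax⟩ := set_has_maximal_iff_noetherian.2 ‹IsNoetherianRing R›
    {p : Ideal R | p.IsPrime ∧ ¬ J ≤ p} ⟨q.asIdeal, q.2, (hmem q).1 hq⟩
  refine ⟨⟨p, hp⟩, (hmem _).2 hJp, fun r hr => ?_⟩
  by_contra hne
  obtain ⟨hne1, hne2⟩ := not_or.1 hne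
  have hpr : p < r.asIdeal := lt_of_le_of_ne hr fun h => hne1 (PrimeSpectrum.ext h.symm)
  have hrm : r.asIdeal < IsLocalRing.maximalIdeal R :=
    lt_of_le_of_ne (IsLocalRing.le_maximalIdeal r.2.ne_top) fun h => hne2 (PrimeSpectrum.ext h)
  obtain ⟨a, haJ, hap⟩ := SetLike.not_le_iff_exists.1 hJp
  have hJm : J ≤ IsLocalRing.maximalIdeal R := by
    by_contra h
    exact hc ((hmem _).2 h)
  have hht : 1 < ((IsLocalRing.maximalIdeal R).map (Ideal.Quotient.mk p)).height := by
    have hker : ∀ s : Ideal R, p ≤ s → RingHom.ker (Ideal.Quotient.mk p) ≤ s := fun s hs => by rwa [Ideal.mk_ker]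
    have : (r.asIdeal.map (Ideal.Quotient.mk p)).IsPrime :=
      Ideal.map_isPrime_of_surjective Ideal.Quotient.mk_surjective (hker _ hpr.le)
    have : ((IsLocalRing.maximalIdeal R).map (Ideal.Quotient.mk p)).IsPrime :=
      Ideal.map_isPrime_of_surjective Ideal.Quotient.mk_surjective (hker _ (hpr.trans hrm).le)
    have hcm : ∀ s : Ideal R, p ≤ s → (s.map (Ideal.Quotient.mk p)).comap (Ideal.Quotient.mk p) = s := fun s hs => by
      rw [Ideal.comap_map_of_surjective _ Ideal.Quotient.mk_surjective, ← RingHom.ker_eq_comap_bot,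
        Ideal.mk_ker, sup_eq_left.2 hs]
    have h1 : r.asIdeal.map (Ideal.Quotient.mk p) < (IsLocalRing.maximalIdeal R).map (Ideal.Quotient.mk p) := by
      refine lt_of_le_of_ne (Ideal.map_mono hrm.le) fun h => hrm.ne ?_
      rw [← hcm r.asIdeal hpr.le, h, hcm _ (hpr.trans hrm).le]
    have h0 : (⊥ : Ideal (R ⧸ p)) < r.asIdeal.map (Ideal.Quotient.mk p) := by
      rw [bot_lt_iff_ne_bot, Ne, Ideal.map_eq_bot_iff_le_ker, Ideal.mk_ker]
      exact not_le_of_gt hpr
    have e1 := Ideal.height_strict_mono_of_isPrime h0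
    have e2 := Ideal.height_strict_mono_of_isPrime h1
    exact lt_of_le_of_lt (Order.one_le_iff_pos.2 (lt_of_le_of_lt bot_le e1)) e2
  obtain ⟨t, ht, hpt, -, hat⟩ := Groth.Agent.LC.exists_prime_between p (IsLocalRing.maximalIdeal R)
    (hpr.trans hrm) hht (hJm haJ) hap
  exact hmax t ⟨ht, fun h => hat (h haJ)⟩ hpt

/-- The point cutting out the slice. -/
theorem exists_point {X S : Scheme.{u}} (f : X ⟶ S) [IsLocallyNoetherian X] (x : X) (U : X.Opens)
    (hx' : ∃ x' : X, x' ∈ U ∧ x' ⤳ x ∧ f x' ≠ f x) :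
    ∃ z : X, z ∈ U ∧ z ⤳ x ∧ f z ≠ f x ∧ ∀ w, z ⤳ w → w ⤳ x → w = z ∨ w = x := by
  obtain ⟨x', hxU, hxx, hfx⟩ := hx'
  let φ := X.fromSpecStalk x
  have hr : ∀ w, w ⤳ x → ∃ p, φ p = w := fun w hw => by
    have : w ∈ Set.range φ := by rw [Scheme.range_fromSpecStalk]; exact hw
    exact this
  have hsp : ∀ p, φ p ⤳ x := fun p => by
    have : φ p ∈ Set.range φ := ⟨p, rfl⟩
    rwa [Scheme.range_fromSpecStalk] at this
  have hfib : ∀ p, f (φ p) = f x ↔ φ p ∈ f ⁻¹' closure {f x} := fun p =>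
    ⟨fun h => Set.mem_preimage.2 (h ▸ subset_closure rfl),
      fun h => ((hsp p).map f.continuous).antisymm (specializes_iff_mem_closure.2 h) |>.eq⟩
  let T : TopologicalSpace.Opens (PrimeSpectrum (X.presheaf.stalk x)) :=
    ⟨φ ⁻¹' ((U : Set X) ∩ (f ⁻¹' closure {f x})ᶜ),
      (U.2.inter (isClosed_closure.preimage f.continuous).isOpen_compl).preimage φ.continuous⟩
  obtain ⟨q, rfl⟩ := hr x' hxx
  obtain ⟨p, ⟨hpU, hpf⟩, hmax⟩ := exists_prime_coheight_one T q ⟨hxU, fun h => hfx ((hfib q).2 h)⟩ (by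
    rintro ⟨-, h⟩
    refine h ?_
    refine Set.mem_preimage.2 ?_
    rw [show φ (IsLocalRing.closedPoint _) = x from Scheme.fromSpecStalk_closedPoint]
    exact subset_closure rfl)
  refine ⟨φ p, hpU, hsp p, fun h => hpf ((hfib p).1 h), fun w hzw hwx => ?_⟩
  obtain ⟨r, rfl⟩ := hr w hwx
  have hle : p ≤ r := (PrimeSpectrum.le_iff_specializes p r).2 (φ.isEmbedding.specializes_iff.1 hzw)
  rcases hmax r hle with h | h
  · exact Or.inl (congrArg φ h)
  · exact Or.inr ((congrArg φ h).trans Scheme.fromSpecStalk_closedPoint)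

/-- Core of the two statements. -/
theorem exists_slice {X S : Scheme.{u}} (f : X ⟶ S) [LocallyOfFiniteType f] [IsLocallyNoetherian S] (x : X)
    (hcl : IsClosed (Subtype.val ⁻¹' {x} : Set ↑(f ⁻¹' {f x}))) (U : X.Opens)
    (hx' : ∃ x' : X, x' ∈ U ∧ x' ⤳ x ∧ f x' ≠ f x) :
    ∃ (I : X.IdealSheafData) (z₀ x₀ : ↑I.subscheme), I.subschemeι x₀ = x ∧
      (I.subschemeι ≫ f).QuasiFiniteAt x₀ ∧
      I.subschemeι z₀ ∈ U ∧ I.subschemeι z₀ ⤳ x ∧ f (I.subschemeι z₀) ≠ f x := by
  have : IsLocallyNoetherian X := LocallyOfFiniteType.isLocallyNoetherian f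
  obtain ⟨z, hzU, hzx, hfz, hbet⟩ := exists_point f x U hx'
  let I := Scheme.IdealSheafData.vanishingIdeal (⟨closure {z}, isClosed_closure⟩ : TopologicalSpace.Closeds X)
  have hrange : Set.range I.subschemeι = closure {z} := by
    rw [Scheme.IdealSheafData.range_subschemeι, Scheme.IdealSheafData.coe_support_vanishingIdeal]
    rfl
  obtain ⟨z₀, hz₀⟩ : z ∈ Set.range I.subschemeι := hrange ▸ subset_closure rfl
  obtain ⟨x₀, hx₀⟩ : x ∈ Set.range I.subschemeι := hrange ▸ specializes_iff_mem_closure.1 hzx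
  refine ⟨I, z₀, x₀, hx₀, ?_, hz₀ ▸ hzU, hz₀ ▸ hzx, hz₀ ▸ hfz⟩
  rw [Scheme.Hom.quasiFiniteAt_iff_isOpen_singleton_asFiber]
  let g := I.subschemeι ≫ f
  have : LocallyOfFiniteType g := inferInstanceAs (LocallyOfFiniteType (I.subschemeι ≫ f))
  have hgx : g x₀ = f x := by simp [g, hx₀]
  have : LocallyOfFiniteType (g.fiberToSpecResidueField (g x₀)) :=
    inferInstanceAs (LocallyOfFiniteType (pullback.snd g (S.fromSpecResidueField (g x₀))))
  have : IsLocallyNoetherian (g.fiber (g x₀)) := LocallyOfFiniteType.isLocallyNoetherian (g.fiberToSpecResidueField (g x₀))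
  have hval : ∀ w : g.fiber (g x₀), f (I.subschemeι (g.fiberι (g x₀) w)) = f x := fun w => by
    have : g.fiberι (g x₀) w ∈ Set.range (g.fiberι (g x₀)) := ⟨w, rfl⟩
    rw [Scheme.Hom.range_fiberι] at this
    exact (show f (I.subschemeι (g.fiberι (g x₀) w)) = g x₀ from this).trans hgx
  have hemb : Function.Injective (g.fiberι (g x₀)) := (g.fiberι (g x₀)).injective
  have hxF : g.fiberι (g x₀) (g.asFiber x₀) = x₀ := Scheme.Hom.fiberι_asFiber g x₀
  refine Groth.Agent.AlgSpDec.isOpen_singleton_of_closed_minimal (closure_subset_iff_isClosed.1 fun w hw => ?_) fun w hw => ?_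
  · have h1 : x ⤳ I.subschemeι (g.fiberι (g x₀) w) := by
      have := ((specializes_iff_mem_closure.2 hw).map (g.fiberι (g x₀)).continuous).map I.subschemeι.continuous
      rwa [hxF, hx₀] at this
    have h2 : I.subschemeι (g.fiberι (g x₀) w) = x := by
      have h3 := hcl.closure_subset_iff.2 (Set.Subset.refl _)
      have : (⟨_, hval w⟩ : ↑(f ⁻¹' {f x})) ∈ closure (Subtype.val ⁻¹' {x} : Set ↑(f ⁻¹' {f x})) := by
        rw [closure_subtype]
        refine closure_mono ?_ (specializes_iff_mem_closure.1 h1)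
        rintro a rfl
        exact ⟨⟨a, rfl⟩, rfl, rfl⟩
      exact h3 this
    exact hemb (I.subschemeι.injective (h2.trans (hx₀.symm.trans (by rw [hxF]))))
  · have h1 : I.subschemeι (g.fiberι (g x₀) w) ⤳ x := by
      have := (hw.map (g.fiberι (g x₀)).continuous).map I.subschemeι.continuous
      rwa [hxF, hx₀] at this
    have h2 : z ⤳ I.subschemeι (g.fiberι (g x₀) w) :=
      specializes_iff_mem_closure.2 (hrange ▸ ⟨_, rfl⟩)
    rcases hbet _ h2 h1 with h | h
    · exact absurd ((congrArg f h).symm.trans (hval w)) hfz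
    · exact hemb (I.subschemeι.injective (h.trans (hx₀.symm.trans (by rw [hxF]))))

end Groth.Agent.QFSlice
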