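import Mathlib

/-!
A local domain, essentially of finite type over a local ring with finite residue extension, having
no prime but the two obvious ones, only one of which lies over the maximal ideal, is quasi-finite.
-/

set_option autoImplicit false
universe u

namespace Groth.Agent.QFSlice

open IsLocalRing

theorem isMaximal_of_finite_field {A C K : Type u} [CommRing A] [IsLocalRing A] [CommRing C] [Field K]
    [Algebra A C] [Algebra A K] [Module.Finite A K] (q : Ideal C) [q.IsPrime]
    (hq : q.comap (algebraMap A C) = maximalIdeal A) (g : C →ₐ[A] K) (hg : RingHom.ker g = q) :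
    q.IsMaximal := by
  subst hg
  haveI : Algebra.IsIntegral A (C ⧸ RingHom.ker g) :=
    Algebra.IsIntegral.of_injective (Ideal.kerLiftAlg g) (Ideal.kerLiftAlg_injective g)
  have hb : (⊥ : Ideal (C ⧸ RingHom.ker g)).IsMaximal :=
    Ideal.isMaximal_of_isIntegral_of_isMaximal_comap (R := A) ⊥ (by
      have e : (⊥ : Ideal (C ⧸ RingHom.ker g)).comap (algebraMap A (C ⧸ RingHom.ker g)) = maximalIdeal A := by
        rw [IsScalarTower.algebraMap_eq A C (C ⧸ RingHom.ker g), ← Ideal.comap_comap]
        exact (congrArg (Ideal.comap (algebraMap A C)) Ideal.mk_ker).trans hq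
      rw [e]
      exact maximalIdeal.isMaximal A)
  have := Ideal.comap_isMaximal_of_surjective (Ideal.Quotient.mk (RingHom.ker g)) Ideal.Quotient.mk_surjective (K := ⊥)
  exact Ideal.mk_ker (I := RingHom.ker g) ▸ this

theorem quasiFinite_of_two_primes {A D : Type u} [CommRing A] [CommRing D] [IsLocalRing A] [IsLocalRing D]
    [IsDomain D] [Algebra A D] [Algebra.EssFiniteType A D] [Module.Finite A (ResidueField D)]
    (hloc : (maximalIdeal D).comap (algebraMap A D) = maximalIdeal A)
    (h0 : (⊥ : Ideal D).comap (algebraMap A D) ≠ maximalIdeal A)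
    (h2 : ∀ P : Ideal D, P.IsPrime → P = ⊥ ∨ P = maximalIdeal D) :
    Algebra.QuasiFinite A D := by
  let C := Algebra.EssFiniteType.subalgebra A D
  let M := Algebra.EssFiniteType.submonoid A D
  let q : Ideal C := (maximalIdeal D).comap (algebraMap C D)
  have hM : M = q.primeCompl := by
    ext c
    show IsUnit (algebraMap C D c) ↔ algebraMap C D c ∉ maximalIdeal D
    rw [mem_maximalIdeal, mem_nonunits_iff, not_not]
  have : IsLocalization.AtPrime D q := show IsLocalization q.primeCompl D from hM ▸ inferInstance
  suffices Algebra.QuasiFiniteAt A q from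
    (Algebra.QuasiFinite.iff_of_algEquiv
      ((IsLocalization.algEquiv q.primeCompl (Localization.AtPrime q) D).restrictScalars A)).1 this
  have hqm : q.comap (algebraMap A C) = maximalIdeal A := by
    show ((maximalIdeal D).comap (algebraMap C D)).comap (algebraMap A C) = _
    rw [Ideal.comap_comap, ← IsScalarTower.algebraMap_eq, hloc]
  have hqp : q.IsPrime := Ideal.comap_isPrime _ _
  have hmax : q.IsMaximal := isMaximal_of_finite_field (K := ResidueField D) q hqm
    ((IsScalarTower.toAlgHom A D (ResidueField D)).comp C.val)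
    (Ideal.ext fun c => RingHom.mem_ker.trans (IsLocalRing.residue_eq_zero_iff (algebraMap C D c)))
  let qs : PrimeSpectrum C := ⟨q, inferInstance⟩
  refine (Algebra.quasiFiniteAt_iff_isOpen_singleton_fiber qs).2 ?_
  let p := qs.comap (algebraMap A C)
  let e := PrimeSpectrum.preimageHomeomorphFiber A C p
  rw [← e.isOpen_image, Set.image_singleton]
  have : IsNoetherianRing (p.asIdeal.Fiber C) := Algebra.FiniteType.isNoetherianRing p.asIdeal.ResidueField _
  have : IsJacobsonRing (p.asIdeal.Fiber C) := isJacobsonRing_of_finiteType (A := p.asIdeal.ResidueField)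
  rw [(PrimeSpectrum.isOpen_singleton_tfae_of_isNoetherian_of_isJacobsonRing (e ⟨qs, rfl⟩)).out 0 2 rfl rfl]
  refine ⟨?_, ?_⟩
  · rw [← Set.image_singleton, e.isClosed_image]
    refine closure_subset_iff_isClosed.1 fun r hr => Subtype.ext ?_
    have h := ((specializes_iff_mem_closure.2 hr).map continuous_subtype_val)
    exact PrimeSpectrum.ext (hmax.eq_of_le r.1.2.ne_top ((PrimeSpectrum.le_iff_specializes _ _).2 h)).symm
  · intro a b hab ha
    obtain rfl : a = e ⟨qs, rfl⟩ := ha
    obtain ⟨r, rfl⟩ := e.surjective b
    refine congrArg e (Subtype.ext (PrimeSpectrum.ext ?_))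
    have hle : r.1.asIdeal ≤ q := (PrimeSpectrum.le_iff_specializes r.1 qs).2
      ((e.isInducing.specializes_iff.1 hab).map continuous_subtype_val)
    have hr : r.1.asIdeal.comap (algebraMap A C) = maximalIdeal A :=
      (congrArg PrimeSpectrum.asIdeal r.2).trans hqm
    have hd : Disjoint (q.primeCompl : Set C) r.1.asIdeal := Set.disjoint_left.2 fun c hc hcr => hc (hle hcr)
    have := IsLocalization.comap_map_of_isPrime_disjoint q.primeCompl D (I := r.1.asIdeal) r.1.2 hd
    rcases h2 _ (IsLocalization.isPrime_of_isPrime_disjoint q.primeCompl D r.1.asIdeal r.1.2 hd) with h | h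
    · refine absurd ?_ h0
      rw [← hr, ← this, h, Ideal.comap_comap, ← IsScalarTower.algebraMap_eq]
    · rw [← this, h]

end Groth.Agent.QFSlice
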